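import Groth.Prelude.Def_SGA3b
import Mathlib

set_option autoImplicit false
set_option linter.unusedSectionVars false
universe u
open scoped TensorProduct

namespace Groth.Agent.Versch53

variable {R : Type u} [CommRing R] (T : Type u) [CommRing T] [Algebra R T]
  {A : Type u} [CommRing A] [HopfAlgebra R A]

theorem powConv_baseChange_one_tmul (n : ℕ) (b : A) :
    SGA3b.powConv T (T ⊗[R] A) n ((1 : T) ⊗ₜ[R] b) = (1 : T) ⊗ₜ[R] SGA3b.powConv R A n b := by
  induction n generalizing b with
  | zero =>
    change ((WithConv.toConv (AlgHom.id T (T ⊗[R] A))) ^ 0).ofConv ((1 : T) ⊗ₜ[R] b) =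
      (1 : T) ⊗ₜ[R] ((WithConv.toConv (AlgHom.id R A)) ^ 0).ofConv b
    rw [pow_zero, pow_zero]
    simp only [AlgHom.convOne_def, WithConv.ofConv_toConv, AlgHom.comp_apply,
      Bialgebra.counitAlgHom_apply, TensorProduct.counit_tmul, CommSemiring.counit_apply,
      Algebra.ofId_apply]
    rw [Algebra.smul_def, mul_one, Algebra.TensorProduct.algebraMap_apply, Algebra.algebraMap_self,
      RingHom.id_apply, Algebra.TensorProduct.tmul_one_eq_one_tmul]
  | succ n ih =>
    change ((WithConv.toConv (AlgHom.id T (T ⊗[R] A))) ^ (n + 1)).ofConv ((1 : T) ⊗ₜ[R] b) =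
      (1 : T) ⊗ₜ[R] ((WithConv.toConv (AlgHom.id R A)) ^ (n + 1)).ofConv b
    rw [pow_succ, pow_succ, AlgHom.convMul_apply, AlgHom.convMul_apply, TensorProduct.comul_tmul,
      CommSemiring.comul_apply]
    generalize Coalgebra.comul (R := R) b = t
    induction t using TensorProduct.induction_on with
    | zero => simp
    | tmul c d =>
      rw [TensorProduct.AlgebraTensorModule.tensorTensorTensorComm_tmul]
      simp only [Algebra.TensorProduct.lift_tmul,
        WithConv.ofConv_toConv, AlgHom.id_apply]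
      rw [show ((WithConv.toConv (AlgHom.id T (T ⊗[R] A))) ^ n).ofConv ((1 : T) ⊗ₜ[R] c) = _ from ih c,
        Algebra.TensorProduct.tmul_mul_tmul, mul_one]
      rfl
    | add x y hx hy => simp only [TensorProduct.tmul_add, map_add, hx, hy]

theorem powConv_baseChange_tmul (n : ℕ) (t : T) (b : A) :
    SGA3b.powConv T (T ⊗[R] A) n (t ⊗ₜ[R] b) = t ⊗ₜ[R] SGA3b.powConv R A n b := by
  have h : t ⊗ₜ[R] b = t • ((1 : T) ⊗ₜ[R] b) := by
    rw [TensorProduct.smul_tmul', smul_eq_mul, mul_one]
  rw [h, map_smul, powConv_baseChange_one_tmul, TensorProduct.smul_tmul', smul_eq_mul, mul_one]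

end Groth.Agent.Versch53
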