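import Groth.Prelude.Def_Versch
import Groth.Prelude.Def_CartDual2
import Groth.Prelude.Def_SGA3b
import Groth.Agent.S3191
import Mathlib

set_option autoImplicit false
set_option linter.unusedSectionVars false
universe u v
open scoped TensorProduct
open Versch

namespace Groth.Agent.Versch53

theorem toTwist_natCast {p : ℕ} [Fact p.Prime] {R : Type u} [CommRing R] [CharP R p] :
    (p : FrobAlg.Twist p R) = 0 := CharP.cast_eq_zero _ _

theorem sum_pow_char_of_zero {p : ℕ} [Fact p.Prime] {S : Type*} [CommRing S] (hS : (p : S) = 0)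
    {ι : Type*} (s : Finset ι) (f : ι → S) : (∑ i ∈ s, f i) ^ p = ∑ i ∈ s, f i ^ p := by
  rcases subsingleton_or_nontrivial S with h | h
  · exact Subsingleton.elim _ _
  · haveI : CharP S p := (CharP.charP_iff_prime_eq_zero Fact.out).2 hS
    exact sum_pow_char p s f

theorem natCast_conv_eq_zero {p : ℕ} {R : Type u} [CommRing R] (hR : (p : R) = 0) {B : Type v}
    [Ring B] [Algebra R B] : (p : B) = 0 := by
  rw [← map_natCast (algebraMap R B), hR, map_zero]

section Eval

variable (R : Type u) [CommRing R] (A : Type v) [Ring A] [Bialgebra R A]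
  [Module.Finite R A] [Module.Projective R A]

theorem eval_bijective : Function.Bijective (CartDual.eval R A) := by
  constructor
  · intro a b h
    refine (Module.bijective_dual_eval R A).1 (LinearMap.ext fun φ => ?_)
    exact congrArg (fun z : CartDual.D R (CartDual.D R A) => z (WithConv.toConv φ)) h
  · intro z
    obtain ⟨a, ha⟩ := (Module.bijective_dual_eval R A).2
      (z.ofConv ∘ₗ (CartDual.toDual R A).symm.toLinearMap)
    refine ⟨a, ?_⟩
    apply WithConv.ext
    apply LinearMap.ext
    intro x
    exact LinearMap.congr_fun ha x.ofConv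

end Eval

section Conv

variable {R : Type u} [CommRing R] {A : Type u} [CommRing A] [HopfAlgebra R A]

theorem pow_apply_grouplike (x : CartDual.D R A) {g : A}
    (hg : Coalgebra.comul (R := R) g = g ⊗ₜ[R] g) (hε : Coalgebra.counit (R := R) g = 1) (n : ℕ) :
    (x ^ n) g = (x g) ^ n := by
  induction n with
  | zero => simp [LinearMap.convOne_def, CartDual.coe_apply, hε]
  | succ n ih =>
    rw [pow_succ, LinearMap.convMul_apply, hg]
    simp [← CartDual.coe_apply, ih, pow_succ]

theorem pow_apply_one (x : CartDual.D R A) (n : ℕ) : (x ^ n) 1 = (x 1) ^ n :=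
  pow_apply_grouplike x (Bialgebra.comul_one.trans Algebra.TensorProduct.one_def)
    Bialgebra.counit_one n

theorem toLinearMap_pow {S : Type u} [CommRing S] [Algebra R S] (f : WithConv (A →ₐ[R] S)) (n : ℕ) :
    (WithConv.toConv f.ofConv.toLinearMap) ^ n = WithConv.toConv (f ^ n).ofConv.toLinearMap := by
  induction n with
  | zero =>
    rw [pow_zero, pow_zero]
    apply WithConv.ext
    apply LinearMap.ext
    intro a
    simp [LinearMap.convOne_def, AlgHom.convOne_def]
  | succ n ih =>
    rw [pow_succ, pow_succ, ih]
    apply WithConv.ext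
    apply LinearMap.ext
    intro a
    rw [LinearMap.convMul_apply]
    change _ = (f ^ n * f).ofConv a
    rw [AlgHom.convMul_apply]
    generalize Coalgebra.comul (R := R) a = t
    induction t using TensorProduct.induction_on with
    | zero => simp
    | tmul b c => simp
    | add x y hx hy => simp only [map_add, hx, hy]

theorem comp_pow {B C : Type u} [CommRing B] [Algebra R B] [CommRing C] [Algebra R C]
    (φ : B →ₐ[R] C) (f : WithConv (A →ₐ[R] B)) (n : ℕ) :
    WithConv.toConv (φ.comp (f ^ n).ofConv) = (WithConv.toConv (φ.comp f.ofConv)) ^ n := by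
  induction n with
  | zero =>
    rw [pow_zero, pow_zero]
    apply WithConv.ext
    apply AlgHom.ext
    intro a
    simp [AlgHom.convOne_def]
  | succ n ih =>
    rw [pow_succ, pow_succ, ← ih]
    apply WithConv.ext
    apply AlgHom.ext
    intro a
    change φ ((f ^ n * f).ofConv a) = _
    rw [AlgHom.convMul_apply, AlgHom.convMul_apply]
    generalize Coalgebra.comul (R := R) a = t
    induction t using TensorProduct.induction_on with
    | zero => simp
    | tmul b c => simp
    | add x y hx hy => simp only [map_add, hx, hy]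

theorem powConv_comp (m n : ℕ) :
    (SGA3b.powConv R A m).comp (SGA3b.powConv R A n) = SGA3b.powConv R A (m * n) := by
  have h := congrArg WithConv.ofConv
    (comp_pow (SGA3b.powConv R A m) (WithConv.toConv (AlgHom.id R A)) n)
  simp only [WithConv.ofConv_toConv, AlgHom.comp_id] at h
  exact h.trans (congrArg WithConv.ofConv (pow_mul (WithConv.toConv (AlgHom.id R A)) m n).symm)

end Conv

section General

variable {p : ℕ} [Fact p.Prime] {R : Type u} [CommRing R] [CharP R p]
  {A : Type u} [CommRing A] [HopfAlgebra R A] [Coalgebra.IsCocomm R A] [Module.Finite R A]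
  [Module.Projective R A] {v : A →+* FrobAlg.BaseChange p R A}

theorem v_algebraMap (hv : IsVerschiebung p R A v) (r : R) :
    v (algebraMap R A r) = (1 : A) ⊗ₜ[R] FrobAlg.toTwist p R r := by
  rw [isVerschiebung_iff] at hv
  refine evTw_injective p R A fun x => ?_
  rw [hv, evTw_tmul', Algebra.algebraMap_eq_smul_one]
  simp only [CartDual.coe_apply, map_smul, smul_eq_mul]
  rw [← CartDual.coe_apply, pow_apply_one, map_mul, mul_comm]

theorem v_smul (hv : IsVerschiebung p R A v) (r : R) (a : A) :
    v (r • a) = v a * ((1 : A) ⊗ₜ[R] FrobAlg.toTwist p R r) := by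
  rw [Algebra.smul_def, map_mul, v_algebraMap hv, mul_comm]

/-- The defining identity extended to linear maps with values in an `R`-algebra of char `p`. -/
theorem pow_apply_eq (hv : IsVerschiebung p R A v) (S : Type u) [CommRing S] [Algebra R S]
    (hS : (p : S) = 0) (x : WithConv (A →ₗ[R] S))
    (L : FrobAlg.BaseChange p R A →+ S)
    (hL : ∀ a t, L (a ⊗ₜ[R] t) = (x a) ^ p * algebraMap R S ((FrobAlg.toTwist p R).symm t))
    (a : A) : L (v a) = (x ^ p) a := by
  classical
  obtain ⟨n, b, hb⟩ := Module.Finite.exists_fin (R := R) (M := A)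
  obtain ⟨s, hs⟩ := Module.projective_lifting_property
    (Fintype.linearCombination R b) LinearMap.id (by
      rw [← LinearMap.range_eq_top, Fintype.range_linearCombination, hb])
  let g : Fin n → CartDual.D R A := fun i => WithConv.toConv (LinearMap.proj i ∘ₗ s)
  have hdec : ∀ c : A, c = ∑ i, g i c • b i := fun c => by
    conv_lhs => rw [show c = Fintype.linearCombination R b (s c) from (LinearMap.congr_fun hs c).symm]
    simp [g, Fintype.linearCombination_apply, CartDual.coe_apply]
  let up : Fin n → WithConv (A →ₗ[R] S) :=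
    fun i => WithConv.toConv (Algebra.linearMap R S ∘ₗ (g i).ofConv)
  have hx : x = ∑ i, x (b i) • up i := by
    apply WithConv.ext
    apply LinearMap.ext
    intro c
    conv_lhs => rw [hdec c]
    simp only [map_sum, map_smul, WithConv.ofConv_sum, LinearMap.sum_apply, WithConv.ofConv_smul,
      LinearMap.smul_apply, smul_eq_mul, up, WithConv.ofConv_toConv, LinearMap.coe_comp,
      Function.comp_apply, Algebra.linearMap_apply]
    exact Finset.sum_congr rfl fun i _ => by rw [Algebra.smul_def, mul_comm]
  have hpow : ∀ i (m : ℕ),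
      (up i) ^ m = WithConv.toConv (Algebra.linearMap R S ∘ₗ ((g i) ^ m).ofConv) := by
    intro i m
    induction m with
    | zero =>
      apply WithConv.ext
      apply LinearMap.ext
      intro c
      simp [LinearMap.convOne_def]
    | succ m ih =>
      rw [pow_succ, pow_succ, ih]
      apply WithConv.ext
      apply LinearMap.ext
      intro c
      rw [LinearMap.convMul_apply]
      simp only [WithConv.ofConv_toConv, LinearMap.coe_comp, Function.comp_apply]
      rw [LinearMap.convMul_apply]
      generalize Coalgebra.comul (R := R) c = t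
      induction t using TensorProduct.induction_on with
      | zero => simp
      | tmul d e => simp [up, CartDual.coe_apply]
      | add y z hy hz => simp only [map_add, hy, hz]
  have hrhs : (x ^ p) a = ∑ i, x (b i) ^ p * algebraMap R S (((g i) ^ p) a) := by
    conv_lhs => rw [hx]
    rw [sum_pow_char_of_zero (natCast_conv_eq_zero (R := R) (CharP.cast_eq_zero R p))]
    simp only [smul_pow, hpow, WithConv.ofConv_sum, LinearMap.sum_apply, WithConv.ofConv_smul,
      LinearMap.smul_apply, smul_eq_mul, WithConv.ofConv_toConv, LinearMap.coe_comp,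
      Function.comp_apply, Algebra.linearMap_apply]
  have hLx : ∀ z, L z = ∑ i, x (b i) ^ p *
      algebraMap R S ((FrobAlg.toTwist p R).symm (evTw p R A (g i) z)) := by
    intro z
    induction z using TensorProduct.induction_on with
    | zero => simp
    | tmul c t =>
      rw [hL]
      conv_lhs => rw [hdec c]
      simp only [map_sum, Finset.sum_mul, evTw_tmul', map_mul, RingEquiv.symm_apply_apply, map_pow]
      rw [sum_pow_char_of_zero hS, Finset.sum_mul]
      refine Finset.sum_congr rfl fun i _ => ?_
      rw [map_smul, Algebra.smul_def, mul_pow]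
      ring
    | add y z hy hz => simp only [map_add, hy, hz, mul_add, Finset.sum_add_distrib]
  rw [isVerschiebung_iff] at hv
  simp only [hLx, hrhs, hv, RingEquiv.symm_apply_apply]

variable [CharP A p]

theorem relFrob_comp_v (hv : IsVerschiebung p R A v) :
    (FrobAlg.relFrob p R A).comp v = (SGA3b.powConv R A p).toRingHom := by
  apply RingHom.ext
  intro a
  have h := pow_apply_eq hv A (CharP.cast_eq_zero A p)
    (WithConv.toConv (AlgHom.id R A).toLinearMap) (FrobAlg.relFrob p R A).toAddMonoidHom
    (fun b t => by
      change FrobAlg.relFrob p R A (b ⊗ₜ[R] t) = _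
      simp [FrobAlg.relFrob, FrobAlg.frobHom, FrobAlg.inclHom, Algebra.TensorProduct.lift_tmul]
      rfl) a
  refine Eq.trans h ?_
  exact congrArg (fun z => z a) (toLinearMap_pow (WithConv.toConv (AlgHom.id R A)) p)

theorem key_pow (z : FrobAlg.BaseChange p R A) :
    (FrobAlg.relFrob p R A z) ⊗ₜ[R] (1 : FrobAlg.Twist p R) = z ^ p := by
  haveI : Nontrivial A := CharP.nontrivial_of_char_ne_one (Fact.out : p.Prime).ne_one
  induction z using TensorProduct.induction_on with
  | zero => rw [map_zero, TensorProduct.zero_tmul, zero_pow (Fact.out : p.Prime).ne_zero]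
  | tmul b t =>
    have hrel : FrobAlg.relFrob p R A (b ⊗ₜ[R] t)
        = b ^ p * algebraMap R A ((FrobAlg.toTwist p R).symm t) := by
      simp [FrobAlg.relFrob, FrobAlg.frobHom, FrobAlg.inclHom, Algebra.TensorProduct.lift_tmul]
      rfl
    rw [hrel, mul_comm, ← Algebra.smul_def, TensorProduct.smul_tmul, Algebra.smul_def, mul_one,
      FrobAlg.algebraMap_twist, Algebra.TensorProduct.tmul_pow, map_pow, RingEquiv.apply_symm_apply]
  | add x y hx hy =>
    obtain ⟨r, hr⟩ := exists_add_pow_prime_eq (Fact.out : p.Prime) x y
    have hp0 : (p : FrobAlg.BaseChange p R A) = 0 := by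
      rw [← map_natCast (algebraMap R (FrobAlg.BaseChange p R A)), CharP.cast_eq_zero, map_zero]
    rw [map_add, TensorProduct.add_tmul, hx, hy, hr, hp0, zero_mul, zero_mul, zero_mul, add_zero]

theorem v_relFrob (hv : IsVerschiebung p R A v) (b : A) (t : FrobAlg.Twist p R) :
    v (FrobAlg.relFrob p R A (b ⊗ₜ[R] t)) = SGA3b.powConv R A p b ⊗ₜ[R] t := by
  have hrel : FrobAlg.relFrob p R A (b ⊗ₜ[R] t)
      = b ^ p * algebraMap R A ((FrobAlg.toTwist p R).symm t) := by
    simp [FrobAlg.relFrob, FrobAlg.frobHom, FrobAlg.inclHom, Algebra.TensorProduct.lift_tmul]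
    rfl
  rw [hrel, map_mul, map_pow, v_algebraMap hv, RingEquiv.apply_symm_apply, ← key_pow,
    Algebra.TensorProduct.tmul_mul_tmul, mul_one, one_mul]
  congr 1
  exact RingHom.congr_fun (relFrob_comp_v hv) b

end General

end Groth.Agent.Versch53
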