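import Groth.Agent.Versch53.Basic
import Groth.Agent.FrobAlg53.RelFrobEtale
import Mathlib

set_option autoImplicit false
set_option linter.unusedSectionVars false
universe u v
open scoped TensorProduct

namespace Groth.Agent.Versch53

variable {p : ℕ} [Fact p.Prime] {k : Type u} [Field k] [CharP k p]
  {A : Type v} [CommRing A] [HopfAlgebra k A] [Coalgebra.IsCocomm k A] [FiniteDimensional k A]

/-- Coordinates of the Frobenius twist, for the structure through the right factor. -/
theorem exists_coords {M : Type*} [AddCommGroup M] [Module k M] [FiniteDimensional k M] :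
    ∃ e : (M ⊗[k] FrobAlg.Twist p k) ≃+ (Fin (Module.finrank k M) → k),
      ∀ (r : k) (m : M) (t : FrobAlg.Twist p k),
        e (m ⊗ₜ[k] (t * FrobAlg.toTwist p k r)) = r • e (m ⊗ₜ[k] t) := by
  let T := FrobAlg.Twist p k
  let b := Module.finBasis k M
  refine ⟨((TensorProduct.comm k M T).toAddEquiv.trans (b.baseChange T).equivFun.toAddEquiv).trans
    (AddEquiv.arrowCongr (Equiv.refl _) (FrobAlg.toTwist p k).symm.toAddEquiv), fun r m t => ?_⟩
  funext i
  simp only [AddEquiv.trans_apply, LinearEquiv.coe_toAddEquiv, TensorProduct.comm_tmul,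
    AddEquiv.arrowCongr_apply, Equiv.refl_symm, Equiv.refl_apply, Pi.smul_apply, smul_eq_mul]
  change (FrobAlg.toTwist p k).symm ((b.baseChange T).equivFun ((t * FrobAlg.toTwist p k r) ⊗ₜ[k] m) i)
    = r * (FrobAlg.toTwist p k).symm ((b.baseChange T).equivFun (t ⊗ₜ[k] m) i)
  rw [show (t * FrobAlg.toTwist p k r) ⊗ₜ[k] m = FrobAlg.toTwist p k r • (t ⊗ₜ[k] m) from by
      rw [TensorProduct.smul_tmul', smul_eq_mul, mul_comm],
    map_smul, Pi.smul_apply, smul_eq_mul, map_mul, RingEquiv.symm_apply_apply]

theorem exists_coords_relFrob (B : Type v) [CommRing B] [Algebra k B] [CharP B p]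
    [FiniteDimensional k B] :
    ∃ e : (B ⊗[k] FrobAlg.Twist p k) ≃+ (Fin (Module.finrank k B) → k),
      ∀ (r : k) (c : Fin (Module.finrank k B) → k),
        FrobAlg.relFrob p k B (e.symm (r • c)) = r • FrobAlg.relFrob p k B (e.symm c) := by
  obtain ⟨e, he⟩ := exists_coords (p := p) (k := k) (M := B)
  refine ⟨e, fun r c => ?_⟩
  obtain ⟨z, rfl⟩ := e.surjective c
  have : e.symm (r • e z) = z * ((1 : B) ⊗ₜ[k] FrobAlg.toTwist p k r) := by
    rw [AddEquiv.symm_apply_eq]
    induction z using TensorProduct.induction_on with
    | zero => simp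
    | tmul b t => rw [Algebra.TensorProduct.tmul_mul_tmul, mul_one, he]
    | add y z hy hz => simp only [add_mul, map_add, smul_add, hy, hz]
  rw [this, AddEquiv.symm_apply_apply, map_mul, mul_comm, Algebra.smul_def]
  congr 1
  simp [FrobAlg.relFrob, FrobAlg.frobHom, FrobAlg.inclHom, Algebra.TensorProduct.lift_tmul]

variable {v : A →+* FrobAlg.BaseChange p k A}

theorem bijective_v_iff (hv : Versch.IsVerschiebung p k A v) :
    Function.Bijective v ↔ Function.Bijective (FrobAlg.relFrob p k (CartDual.D k A)) := by
  classical
  have hp0 : (p : CartDual.D k A) = 0 := CharP.cast_eq_zero _ _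
  obtain ⟨eA, heA⟩ := exists_coords (p := p) (k := k) (M := A)
  obtain ⟨eD, heD⟩ := exists_coords_relFrob (p := p) (k := k) (CartDual.D k A)
  have hv' := (Versch.isVerschiebung_iff p k A v).1 hv
  have hvsmul : ∀ (r : k) (a : A), v (r • a) = v a * ((1 : A) ⊗ₜ[k] FrobAlg.toTwist p k r) := by
    intro r a
    refine Versch.evTw_injective p k A fun x => ?_
    have hmul : ∀ z : FrobAlg.BaseChange p k A, Versch.evTw p k A x (z * ((1 : A) ⊗ₜ[k] FrobAlg.toTwist p k r))
        = Versch.evTw p k A x z * FrobAlg.toTwist p k r := by
      intro z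
      induction z using TensorProduct.induction_on with
      | zero => simp
      | tmul b t =>
        rw [Algebra.TensorProduct.tmul_mul_tmul, mul_one, Versch.evTw_tmul, Versch.evTw_tmul, mul_assoc]
      | add y z hy hz => simp only [add_mul, map_add, hy, hz]
    rw [hmul, hv', hv']
    simp only [CartDual.coe_apply, map_smul, smul_eq_mul, map_mul]
    ring
  let v' : A →ₗ[k] (Fin (Module.finrank k A) → k) :=
    { toFun := fun a => eA (v a)
      map_add' := fun a a' => by rw [map_add, map_add]
      map_smul' := fun r a => by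
        simp only [RingHom.id_apply]
        rw [hvsmul]
        induction v a using TensorProduct.induction_on with
        | zero => simp
        | tmul b t => rw [Algebra.TensorProduct.tmul_mul_tmul, mul_one, heA]
        | add y z hy hz => simp only [add_mul, map_add, hy, hz, smul_add] }
  let F' : (Fin (Module.finrank k (CartDual.D k A)) → k) →ₗ[k] CartDual.D k A :=
    { toFun := fun c => FrobAlg.relFrob p k (CartDual.D k A) (eD.symm c)
      map_add' := fun c c' => by rw [map_add, map_add]
      map_smul' := fun r c => heD r c }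
  have hbv : Function.Bijective v ↔ Function.Injective v' := by
    constructor
    · exact fun h => eA.injective.comp h.1
    · intro h
      have h' : Function.Bijective v' :=
        ⟨h, (LinearMap.injective_iff_surjective_of_finrank_eq_finrank
          (Module.finrank_fin_fun k).symm).1 h⟩
      have : (v : A → FrobAlg.BaseChange p k A) = eA.symm ∘ v' := by
        funext a; exact (eA.symm_apply_apply (v a)).symm
      rw [this]; exact eA.symm.bijective.comp h'
  have hbF : Function.Bijective (FrobAlg.relFrob p k (CartDual.D k A)) ↔ Function.Surjective F' := by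
    constructor
    · exact fun h => h.2.comp eD.symm.surjective
    · intro h
      have h' : Function.Bijective F' :=
        ⟨(LinearMap.injective_iff_surjective_of_finrank_eq_finrank
          (Module.finrank_fin_fun k)).2 h, h⟩
      have : (FrobAlg.relFrob p k (CartDual.D k A) : FrobAlg.BaseChange p k (CartDual.D k A) → _) = F' ∘ eD := by
        funext z; exact congrArg _ (eD.symm_apply_apply z).symm
      rw [this]; exact h'.comp eD.bijective
  rw [hbv, hbF]
  constructor
  · intro h
    rw [← LinearMap.range_eq_top]
    by_contra hne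
    obtain ⟨φ, hφ, hle⟩ := Submodule.exists_le_ker_of_lt_top _ (lt_top_iff_ne_top.2 hne)
    obtain ⟨a, ha⟩ := (Module.bijective_dual_eval k A).2 (φ ∘ₗ (CartDual.toDual k A).symm.toLinearMap)
    have hφa : ∀ x : CartDual.D k A, φ x = x a := fun x => (LinearMap.congr_fun ha x.ofConv).symm
    have hva : v a = 0 := by
      refine Versch.evTw_injective p k A fun x => ?_
      have h1 := hle ⟨eD (x ⊗ₜ[k] (1 : FrobAlg.Twist p k)), rfl⟩
      rw [LinearMap.mem_ker, hφa] at h1
      change FrobAlg.relFrob p k (CartDual.D k A) (eD.symm (eD (x ⊗ₜ[k] (1 : FrobAlg.Twist p k)))) a = 0 at h1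
      rw [AddEquiv.symm_apply_apply] at h1
      have h2 := hv a x 1
      rw [mul_one, h1, map_zero] at h2
      rw [h2, map_zero]
    have ha0 : a = 0 := h (show v' a = v' 0 by simp [v', hva])
    apply hφ
    ext x
    rw [hφa, ha0]
    simp [CartDual.coe_apply]
  · intro h
    rw [injective_iff_map_eq_zero]
    intro a ha
    have hva : v a = 0 := eA.injective (by simpa [v'] using ha)
    refine (Module.forall_dual_apply_eq_zero_iff k a).1 fun φ => ?_
    obtain ⟨c, hc⟩ := h (WithConv.toConv φ)
    obtain ⟨z, rfl⟩ := eD.surjective c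
    have key : ∀ z, FrobAlg.relFrob p k (CartDual.D k A) z a = 0 := by
      intro z
      induction z using TensorProduct.induction_on with
      | zero => simp [CartDual.coe_apply]
      | tmul x t =>
        apply (FrobAlg.toTwist p k).injective
        rw [← hv a x t, hva, map_zero, zero_mul, map_zero]
      | add y z hy hz =>
        simp only [map_add, CartDual.coe_apply, WithConv.ofConv_add, LinearMap.add_apply] at hy hz ⊢
        rw [hy, hz, add_zero]
    have hh : φ a = (F' (eD z)) a := by rw [hc]
    rw [hh]
    change FrobAlg.relFrob p k (CartDual.D k A) (eD.symm (eD z)) a = 0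
    rw [AddEquiv.symm_apply_apply]
    exact key z

end Groth.Agent.Versch53
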