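import Groth.Agent.Versch53.Basic
import Groth.Prelude.Def_AlphaP
import Mathlib

set_option autoImplicit false
set_option linter.unusedSectionVars false
universe u
open scoped TensorProduct

namespace Groth.Agent.Versch53

variable {p : ℕ} [Fact p.Prime] {R : Type u} [CommRing R] [CharP R p]

theorem pow_apply_x_pow_eq_zero (g : CartDual.D R (AlphaP.A p R)) (hg : g 1 = 0) :
    ∀ m j, j < m → (g ^ m) (AlphaP.x p R ^ j) = 0 := by
  intro m
  induction m with
  | zero => intro j hj; omega
  | succ m ih =>
    intro j hj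
    rw [pow_succ, LinearMap.convMul_apply, Bialgebra.comul_pow, AlphaP.comul_x, add_pow]
    simp only [Algebra.TensorProduct.tmul_pow, one_pow, Algebra.TensorProduct.tmul_mul_tmul, one_mul,
      mul_one, map_sum]
    refine Finset.sum_eq_zero fun i hi => ?_
    rw [Finset.mem_range] at hi
    rw [← nsmul_eq_mul', map_nsmul, map_nsmul]
    rcases Nat.lt_or_ge i m with h | h
    · have h0 : (g ^ m).ofConv (AlphaP.x p R ^ i) = 0 := ih i h
      simp [h0]
    · have h0 : g.ofConv (AlphaP.x p R ^ (j - i)) = 0 := by
        rw [show j - i = 0 by omega, pow_zero]; exact hg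
      simp [h0]

theorem frob_dual (f : CartDual.D R (AlphaP.A p R)) (a : AlphaP.A p R) :
    (f ^ p) a = (f 1) ^ p * Coalgebra.counit (R := R) a := by
  set g : CartDual.D R (AlphaP.A p R) := f - algebraMap R _ (f 1) with hgdef
  have hg1 : g 1 = 0 := by
    simp [hgdef, CartDual.coe_apply, LinearMap.convAlgebraMap_apply]
  have hfg : f = algebraMap R _ (f 1) + g := by rw [hgdef]; abel
  have hgp : (g ^ p) a = 0 := by
    obtain ⟨P, rfl⟩ := AlphaP.mk_surjective p R a
    induction P using Polynomial.induction_on' with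
    | add P Q hP hQ => simp only [map_add, CartDual.coe_apply] at hP hQ ⊢; rw [hP, hQ, add_zero]
    | monomial n c =>
      rw [← Polynomial.smul_X_eq_monomial, map_smul, map_pow, AlphaP.mk_X]
      simp only [CartDual.coe_apply, map_smul]
      rcases Nat.lt_or_ge n p with h | h
      · rw [← CartDual.coe_apply, pow_apply_x_pow_eq_zero g hg1 p n h, smul_zero]
      · rw [AlphaP.x_pow_of_le p R h, map_zero, smul_zero]
  obtain ⟨r, hr⟩ := exists_add_pow_prime_eq (Fact.out : p.Prime)
    (algebraMap R (CartDual.D R (AlphaP.A p R)) (f 1)) g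
  rw [← hfg, natCast_conv_eq_zero (R := R) (CharP.cast_eq_zero R p), zero_mul, zero_mul, zero_mul,
    add_zero, ← map_pow] at hr
  rw [hr]
  simp only [CartDual.coe_apply, WithConv.ofConv_add, LinearMap.add_apply] at hgp ⊢
  rw [hgp, add_zero, LinearMap.convAlgebraMap_apply]
  simp

end Groth.Agent.Versch53
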